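import Mathlib.GroupTheory.GroupAction.Primitive
import Mathlib.GroupTheory.GroupAction.Quotient

/-!
# Maximality of a point stabiliser from a partition into stabiliser orbits
-/

set_option autoImplicit false

namespace Cfsg.Lib.GTwoFour416

open MulAction

/-- If the parts are contained in orbits of the stabiliser of `a` and no proper union of parts
containing `a` has size dividing the orbit length, the stabiliser is maximal. -/
theorem isCoatom_stabilizer_of_parts {G α : Type*} [Group G] [MulAction G α] [Finite α] (a : α)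
    {r : ℕ} (c : α → ℕ) (w : Fin r → ℕ) (hO : ∀ z, z ∈ orbit G a ↔ c z ≠ 0) (hle : ∀ z, c z ≤ r)
    (ha : c a = 1) (hw : ∀ i : Fin r, {z | c z = i.1 + 1}.ncard = w i)
    (hone : ∀ z, c z = 1 → z = a)
    (hconn : ∀ z z', c z ≠ 0 → c z = c z' → ∃ k ∈ stabilizer G a, k • z = z')
    (hsum : ∀ S : Finset (Fin r), (∀ i : Fin r, i.1 = 0 → i ∈ S) → S.sum w ∣ Finset.univ.sum w →
      S = Finset.univ ∨ ∀ i ∈ S, i.1 = 0)
    (htwo : ∃ z, 2 ≤ c z) : IsCoatom (stabilizer G a) := by
  classical
  have hcount : ∀ T : Finset (Fin r), {z | ∃ i ∈ T, c z = i.1 + 1}.ncard = T.sum w := by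
    intro T
    induction T using Finset.induction_on with
    | empty => simp
    | insert i T hi ih =>
      have he : {z | ∃ j ∈ insert i T, c z = j.1 + 1} =
          {z | c z = i.1 + 1} ∪ {z | ∃ j ∈ T, c z = j.1 + 1} := by
        ext z
        simp
      have hd : Disjoint {z | c z = i.1 + 1} {z | ∃ j ∈ T, c z = j.1 + 1} := by
        rw [Set.disjoint_left]
        rintro z hz ⟨j, hj, hzj⟩
        exact hi (by rwa [Fin.ext (by rw [Set.mem_ofPred_eq] at hz; omega : i.1 = j.1)])
      rw [he, Set.ncard_union_eq hd, hw, ih, Finset.sum_insert hi]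
  have horb : orbit G a = {z | ∃ i ∈ (Finset.univ : Finset (Fin r)), c z = i.1 + 1} := by
    ext z
    rw [hO]
    refine ⟨fun h => ?_, fun ⟨i, _, hi⟩ => by omega⟩
    have := hle z
    exact ⟨⟨c z - 1, by omega⟩, Finset.mem_univ _, by simp only; omega⟩
  have hindex : (stabilizer G a).index = Finset.univ.sum w := by
    rw [index_stabilizer, horb, hcount]
  constructor
  · intro h
    obtain ⟨z, hz⟩ := htwo
    obtain ⟨g, hg⟩ := (hO z).2 (by omega)
    have : g ∈ stabilizer G a := h ▸ Subgroup.mem_top g
    rw [← show g • a = z from hg, mem_stabilizer_iff.1 this] at hz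
    omega
  · intro M hM
    have hsub : orbit M a ⊆ orbit G a := fun z ⟨m, hm⟩ => ⟨(m : G), hm⟩
    let S : Finset (Fin r) := Finset.univ.filter fun i => ∃ z ∈ orbit M a, c z = i.1 + 1
    have hS : orbit M a = {z | ∃ i ∈ S, c z = i.1 + 1} := by
      ext z
      constructor
      · intro hz
        have h0 := (hO z).1 (hsub hz)
        have := hle z
        exact ⟨⟨c z - 1, by omega⟩,
          Finset.mem_filter.2 ⟨Finset.mem_univ _, z, hz, by simp only; omega⟩, by simp only; omega⟩
      · rintro ⟨i, hi, hzi⟩
        obtain ⟨y, hy, hyi⟩ := (Finset.mem_filter.1 hi).2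
        obtain ⟨k, hk, hky⟩ := hconn y z (by omega) (by omega)
        obtain ⟨m, hm⟩ := hy
        refine ⟨⟨k, hM.le hk⟩ * m, ?_⟩
        show (k * (m : G)) • a = z
        rw [mul_smul, show (m : G) • a = y from hm, hky]
    have hstab : (stabilizer G a).subgroupOf M = stabilizer M a := rfl
    have hcard : (stabilizer G a).relIndex M = S.sum w := by
      rw [Subgroup.relIndex, hstab, index_stabilizer, hS, hcount]
    have hdvd : S.sum w ∣ Finset.univ.sum w := by
      rw [← hcard, ← hindex]
      exact Subgroup.relIndex_dvd_index_of_le hM.le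
    have h0 : ∀ i : Fin r, i.1 = 0 → i ∈ S := fun i hi =>
      Finset.mem_filter.2 ⟨Finset.mem_univ _, a, mem_orbit_self a, by omega⟩
    rcases hsum S h0 hdvd with h | h
    · rw [← Subgroup.index_eq_one]
      have hmul := Subgroup.relIndex_mul_index hM.le
      rw [hcard, h, ← hindex] at hmul
      have hne : (stabilizer G a).index ≠ 0 := by
        rw [index_stabilizer]
        exact (Set.ncard_ne_zero_of_mem (mem_orbit_self a) (Set.toFinite _))
      exact mul_left_cancel₀ hne (by rw [hmul, mul_one])
    · exfalso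
      obtain ⟨m, hm, hnot⟩ := SetLike.exists_of_lt hM
      have hz : (m • a : α) ∈ orbit M a := ⟨⟨m, hm⟩, rfl⟩
      rw [hS] at hz
      obtain ⟨i, hi, hzi⟩ := hz
      exact hnot (mem_stabilizer_iff.2 (hone _ (by rw [hzi, h i hi])))

/-- Maximality of one point stabiliser gives it for every point of the orbit. -/
theorem isCoatom_stabilizer_smul {G α : Type*} [Group G] [MulAction G α] {a : α} (g : G)
    (h : IsCoatom (stabilizer G a)) : IsCoatom (stabilizer G (g • a)) := by
  rw [stabilizer_smul_eq_stabilizer_map_conj]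
  exact ((MulAut.conj g).mapSubgroup.isCoatom_iff (stabilizer G a)).2 h

end Cfsg.Lib.GTwoFour416
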