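import Cfsg.Agent.Lib.GTwoFour416.Data
import Cfsg.Agent.Lib.GTwoFour416.Parts
import Cfsg.Agent.Lib.CosetEnum.Simple
import Cfsg.Agent.Lib.CosetEnum.Index
import Cfsg.Agent.Lib.J2.Hundred

/-!
# The group on 416 points: point stabilisers and their suborbits
-/

set_option autoImplicit false
set_option linter.style.longLine false
set_option maxRecDepth 100000

namespace Cfsg.Lib.GTwoFour416

open Cfsg.Lib.CosetEnum MulAction

/-- An entry of a packed table. -/
def nib (b T i : ℕ) : ℕ := Nat.shiftRight T (b * i) % 2 ^ b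

/-- One step towards the root of a part. -/
noncomputable def up (D : Parts) (z : ℕ) : ℕ :=
  force z fun z => twalk tab 6 (D.words.getD (nib 4 D.back z) []).reverse z

/-- Several steps. -/
noncomputable def ups (D : Parts) : ℕ → ℕ → ℕ
  | 0, z => z
  | n + 1, z => ups D n (up D z)

/-- The checks on an orbit certificate for the generators below `k`. -/
noncomputable def partsOK (D : Parts) (k : ℕ) : Bool :=
  Nat.blt D.base 416 && Nat.beq (nib 4 D.part D.base) 1 &&
  (D.words.all fun w => (w.all fun g => Nat.blt g 5) && Nat.beq (twalk tab 6 w D.base) D.base &&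
    Nat.beq (twalk tab 6 w 209) 209) &&
  (List.range 416).all fun z => force (nib 4 D.part z) fun c =>
    Nat.ble c D.roots.length && (Nat.beq c 0 || Nat.beq (ups D D.depth z) (D.roots.getD (c - 1) 0)) &&
    (!Nat.beq c 1 || Nat.beq z D.base) &&
    (List.range k).all fun g => Nat.beq c 0 == Nat.beq (nib 4 D.part (img tab 6 g z)) 0

/-- The part sizes of a certificate are as listed. -/
def sizesOK (D : Parts) : Bool :=
  (List.range D.roots.length).all fun i =>
    Nat.beq ((List.range 416).countP fun z => Nat.beq (nib 4 D.part z) (i + 1)) (D.sizes.getD i 0)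

theorem tab_perm : permOK tab 6 416 [] 416 0 = true := by decide +kernel
theorem all_ok : partsOK partsAll 6 = true := by decide +kernel
theorem a_ok : partsOK partsA 5 = true := by decide +kernel
theorem b_ok : partsOK partsB 5 = true := by decide +kernel
theorem all_sizes : sizesOK partsAll = true := by decide +kernel
theorem a_sizes : sizesOK partsA = true := by decide +kernel
theorem b_sizes : sizesOK partsB = true := by decide +kernel

/-- A generator. -/
noncomputable def prm (g : ℕ) : Equiv.Perm (Fin 416) := tperm tab 6 416 g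

/-- The group on 416 points. -/
noncomputable def grp : Subgroup (Equiv.Perm (Fin 416)) := Subgroup.closure (prm '' {g | g < 6})

/-- The group generated by the first five generators. -/
noncomputable def five : Subgroup (Equiv.Perm (Fin 416)) := Subgroup.closure (prm '' {g | g < 5})

theorem five_le_grp : five ≤ grp :=
  Subgroup.closure_mono (Set.image_mono fun g (hg : g < 5) => show g < 6 by omega)

theorem wordVal_mem_five {w : List ℕ} (hw : ∀ g ∈ w, g < 5) : wordVal prm w ∈ five :=
  Subgroup.closure_mono (Set.image_mono fun g hg => List.mem_range.1 hg)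
    (wordVal_mem prm (u := w) (S := List.range 5) fun g hg =>
      ⟨List.mem_range.2 (hw g hg), by have := hw g hg; simp only [eps]; omega⟩)

theorem wordVal_apply {w : List ℕ} (hw : ∀ g ∈ w, g < 6) (i : Fin 416) :
    (wordVal prm w i).1 = twalk tab 6 w i.1 := wordVal_tperm tab_perm (by decide) w hw i

theorem prm_apply {g : ℕ} (hg : g < 6) (i : Fin 416) : (prm g i).1 = img tab 6 g i.1 :=
  tperm_apply tab_perm hg i

/-- The subgroup generated by the words of a certificate. -/
noncomputable def wordsGrp (D : Parts) : Subgroup (Equiv.Perm (Fin 416)) :=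
  Subgroup.closure (wordVal prm '' {w | w ∈ D.words})

section
variable {D : Parts} {k : ℕ} (h : partsOK D k = true)
include h

theorem parts_words {w : List ℕ} (hw : w ∈ D.words) :
    (∀ g ∈ w, g < 5) ∧ twalk tab 6 w D.base = D.base ∧ twalk tab 6 w 209 = 209 := by
  simp only [partsOK, Bool.and_eq_true, List.all_eq_true, Nat.blt_eq, Nat.beq_eq] at h
  exact ⟨(h.1.2 w hw).1.1, (h.1.2 w hw).1.2, (h.1.2 w hw).2⟩

theorem parts_get (z : Fin 416) :
    D.base < 416 ∧ nib 4 D.part D.base = 1 ∧ nib 4 D.part z ≤ D.roots.length ∧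
      (nib 4 D.part z = 0 ∨ ups D D.depth z = D.roots.getD (nib 4 D.part z - 1) 0) ∧
      (nib 4 D.part z = 1 → z.1 = D.base) ∧
      ∀ g < k, (nib 4 D.part z = 0 ↔ nib 4 D.part (img tab 6 g z) = 0) := by
  simp only [partsOK, Bool.and_eq_true, List.all_eq_true, Nat.blt_eq, Nat.beq_eq, List.mem_range,
    force_eq, Bool.or_eq_true, Nat.ble_eq, Bool.not_eq_true', beq_iff_eq] at h
  obtain ⟨⟨⟨h1, h2⟩, -⟩, h3⟩ := h
  obtain ⟨⟨⟨h4, h5⟩, h6⟩, h7⟩ := h3 z.1 z.2
  refine ⟨h1, h2, h4, h5, fun hc => ?_, fun g hg => ?_⟩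
  · rcases h6 with h6 | h6
    · simp [hc] at h6
    · exact h6
  · have := h7 g hg
    constructor
    · intro hc
      rw [hc] at this
      simpa using this.symm
    · intro hc
      rw [hc] at this
      simpa using this

theorem wordsGrp_le_five : wordsGrp D ≤ five := by
  rw [wordsGrp, Subgroup.closure_le]
  rintro _ ⟨w, hw, rfl⟩
  exact wordVal_mem_five (parts_words h hw).1

theorem wordsGrp_fix : wordsGrp D ≤ stabilizer (Equiv.Perm (Fin 416)) (⟨D.base, (parts_get h 0).1⟩ : Fin 416) ⊓
    stabilizer (Equiv.Perm (Fin 416)) (209 : Fin 416) := by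
  rw [wordsGrp, Subgroup.closure_le]
  rintro _ ⟨w, hw, rfl⟩
  obtain ⟨h1, h2, h3⟩ := parts_words h hw
  have h6 : ∀ g ∈ w, g < 6 := fun g hg => by have := h1 g hg; omega
  exact ⟨Fin.ext ((wordVal_apply h6 _).trans h2), Fin.ext ((wordVal_apply h6 _).trans h3)⟩

theorem exists_up (z : Fin 416) : ∃ x ∈ wordsGrp D, (x z).1 = up D z := by
  unfold up
  rw [force_eq]
  set w := D.words.getD (nib 4 D.back z) [] with hw
  by_cases hl : nib 4 D.back z < D.words.length
  · have hm : w ∈ D.words := by
      rw [hw, List.getD_eq_getElem _ _ hl]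
      exact List.getElem_mem hl
    have h6 : ∀ g ∈ w, g < 6 := fun g hg => by have := (parts_words h hm).1 g hg; omega
    refine ⟨(wordVal prm w)⁻¹, inv_mem (Subgroup.subset_closure ⟨w, hm, rfl⟩), ?_⟩
    rw [← wordVal_reverse (x := prm) (fun g => tperm_mul_self tab 6 416 g) w]
    exact wordVal_apply (fun g hg => h6 g (List.mem_reverse.1 hg)) z
  · refine ⟨1, one_mem _, ?_⟩
    rw [hw, List.getD_eq_default _ _ (Nat.not_lt.1 hl)]
    rfl

theorem exists_ups : ∀ (n : ℕ) (z : Fin 416), ∃ x ∈ wordsGrp D, (x z).1 = ups D n z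
  | 0, z => ⟨1, one_mem _, rfl⟩
  | n + 1, z => by
    obtain ⟨x, hx, hxz⟩ := exists_up h z
    obtain ⟨y, hy, hyz⟩ := exists_ups n (x z)
    exact ⟨y * x, mul_mem hy hx, hyz.trans (by rw [hxz]; rfl)⟩

theorem parts_conn {z z' : Fin 416} (hz : nib 4 D.part z ≠ 0)
    (he : nib 4 D.part z = nib 4 D.part z') : ∃ x ∈ wordsGrp D, x z = z' := by
  obtain ⟨x, hx, hxz⟩ := exists_ups h D.depth z
  obtain ⟨y, hy, hyz⟩ := exists_ups h D.depth z'
  refine ⟨y⁻¹ * x, mul_mem (inv_mem hy) hx, ?_⟩
  have e : x z = y z' := Fin.ext (by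
    rw [hxz, hyz, ((parts_get h z).2.2.2.1).resolve_left hz,
      ((parts_get h z').2.2.2.1).resolve_left (he ▸ hz), he])
  rw [Equiv.Perm.mul_apply, e, Equiv.Perm.inv_def, Equiv.symm_apply_apply]

theorem parts_closed (hk : k ≤ 6) {x : Equiv.Perm (Fin 416)}
    (hx : x ∈ Subgroup.closure (prm '' {g | g < k})) :
    ∀ z : Fin 416, nib 4 D.part z = 0 ↔ nib 4 D.part (x z) = 0 := by
  induction hx using Subgroup.closure_induction with
  | mem y hy =>
    obtain ⟨g, hg, rfl⟩ := hy
    intro z
    rw [prm_apply (lt_of_lt_of_le hg hk)]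
    exact (parts_get h z).2.2.2.2.2 g hg
  | one => intro z; simp
  | mul y y' _ _ ih ih' => intro z; rw [Equiv.Perm.mul_apply]; exact (ih' z).trans (ih _)
  | inv y _ ih =>
    intro z
    refine (Iff.symm ?_).trans Iff.rfl
    simpa [Equiv.Perm.inv_def] using ih (y⁻¹ z)

end

theorem count_eq (D : Parts) (hs : sizesOK D = true) (i : ℕ) (hi : i < D.roots.length) :
    {z : Fin 416 | nib 4 D.part z = i + 1}.ncard = D.sizes.getD i 0 := by
  simp only [sizesOK, List.all_eq_true, List.mem_range, Nat.beq_eq] at hs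
  rw [← hs i hi, List.countP_eq_length_filter,
    ← List.toFinset_card_of_nodup ((List.nodup_range (n := 416)).filter _),
    ← Set.ncard_coe_finset, ← Set.ncard_image_of_injective _ Fin.val_injective]
  congr 1
  ext z
  simp only [Set.mem_image, Set.mem_ofPred_eq, Finset.mem_coe, List.mem_toFinset, List.mem_filter,
    List.mem_range, Nat.beq_eq]
  exact ⟨fun ⟨x, hx, e⟩ => e ▸ ⟨x.2, hx⟩, fun ⟨hz, he⟩ => ⟨⟨z, hz⟩, he, rfl⟩⟩

/-- A certificate gives a maximal stabiliser in any group between. -/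
theorem isCoatom_of_parts {D : Parts} {k : ℕ} (h : partsOK D k = true) (hs : sizesOK D = true)
    (hk : k ≤ 6) (G : Subgroup (Equiv.Perm (Fin 416))) (hG : G = Subgroup.closure (prm '' {g | g < k}))
    (horb : ∀ z : Fin 416, nib 4 D.part z ≠ 0 → ∃ x ∈ G, x ⟨D.base, (parts_get h 0).1⟩ = z)
    (hW : wordsGrp D ≤ G)
    (hsum : ∀ S : Finset (Fin D.roots.length), (∀ i : Fin D.roots.length, i.1 = 0 → i ∈ S) →
      (S.sum fun i => D.sizes.getD i 0) ∣ (Finset.univ.sum fun i : Fin D.roots.length => D.sizes.getD i 0) →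
        S = Finset.univ ∨ ∀ i ∈ S, i.1 = 0)
    (htwo : ∃ z : Fin 416, 2 ≤ nib 4 D.part z) :
    IsCoatom (stabilizer G (⟨D.base, (parts_get h 0).1⟩ : Fin 416)) := by
  set a : Fin 416 := ⟨D.base, (parts_get h 0).1⟩
  refine isCoatom_stabilizer_of_parts a (fun z : Fin 416 => nib 4 D.part z)
    (fun i : Fin D.roots.length => D.sizes.getD i 0) ?_ (fun z => (parts_get h z).2.2.1)
    (parts_get h 0).2.1 (fun i => count_eq D hs i.1 i.2)
    (fun z hz => Fin.ext ((parts_get h z).2.2.2.2.1 hz)) ?_ hsum htwo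
  · intro z
    constructor
    · rintro ⟨⟨x, hx⟩, rfl⟩
      show nib 4 D.part (x a) ≠ 0
      rw [hG] at hx
      rw [Ne, ← parts_closed h hk hx a, (parts_get h 0).2.1]
      decide
    · intro hz
      obtain ⟨x, hx, hxz⟩ := horb z hz
      exact ⟨⟨x, hx⟩, hxz⟩
  · intro z z' hz he
    obtain ⟨x, hx, hxz⟩ := parts_conn h hz he
    exact ⟨⟨x, hW hx⟩, ((wordsGrp_fix h) hx).1, hxz⟩

end Cfsg.Lib.GTwoFour416
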