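import Cfsg.Agent.Lib.GTwoFour416.Act
import Cfsg.Agent.Lib.J2.Hundred

/-!
# The group on 416 points is extremely primitive with point stabiliser `J₂`
-/

set_option autoImplicit false
set_option linter.style.longLine false
set_option maxRecDepth 100000

namespace Cfsg.Lib.GTwoFour416

open Cfsg.Lib.CosetEnum MulAction

/-- The base point. -/
def base : Fin 416 := 209

/-- The `i`-th of the hundred points. -/
theorem hundred_lt : ∀ i : Fin 100, nib 9 hundredPts i < 416 := by decide +kernel

/-- The `i`-th of the hundred points. -/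
def pt (i : Fin 100) : Fin 416 := ⟨nib 9 hundredPts i, hundred_lt i⟩

theorem pt_injective : Function.Injective pt := by
  have h : ∀ i j : Fin 100, nib 9 hundredPts i = nib 9 hundredPts j → i = j := by decide +kernel
  exact fun i j e => h i j (congrArg Fin.val e)

theorem genWords_ok : ∀ g : Fin 4, (genWords.getD g []).all (fun a => Nat.blt a 5) = true ∧
    ∀ i : Fin 100, twalk tab 6 (genWords.getD g []) (nib 9 hundredPts i) =
      nib 9 hundredPts (J2.tget 0 J2.hundredImgTab (100 * g + i)) := by
  decide +kernel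

theorem genWords_lt (g : Fin 4) : ∀ a ∈ genWords.getD g [], a < 5 := fun a ha =>
  Nat.blt_eq.mp (List.all_eq_true.1 (genWords_ok g).1 a ha)

/-- The elements inducing the four generators of the Hall–Janko group. -/
noncomputable def hgen (g : Fin 4) : Equiv.Perm (Fin 416) := wordVal prm (genWords.getD g [])

theorem hgen_mem (g : Fin 4) : hgen g ∈ five := wordVal_mem_five (genWords_lt g)

theorem hgen_pt (g : Fin 4) (i : Fin 100) : hgen g (pt i) = pt (J2.setRep (J2.gE g) i) := by
  obtain ⟨k', hk, hv⟩ := J2.mapsSet_gen g i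
  have e : J2.setRep (J2.gE g) i = k' := J2.mapsSet_unique (J2.setFun_spec (J2.gE g) i) hk
  refine Fin.ext ?_
  rw [hgen, wordVal_apply (fun a ha => by have := genWords_lt g a ha; omega), e]
  show twalk tab 6 _ (nib 9 hundredPts i) = nib 9 hundredPts k'
  rw [hv]
  exact (genWords_ok g).2 i

/-- The elements permuting the hundred points, paired with what they induce. -/
def pairs : Subgroup (Equiv.Perm (Fin 416) × Equiv.Perm (Fin 100)) where
  carrier := {p | ∀ i, p.1 (pt i) = pt (p.2 i)}
  one_mem' := fun i => rfl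
  mul_mem' := by
    rintro ⟨a, s⟩ ⟨b, t⟩ ha hb i
    show a (b (pt i)) = pt (s (t i))
    rw [hb i, ha (t i)]
  inv_mem' := by
    rintro ⟨a, s⟩ ha i
    show a⁻¹ (pt i) = pt (s⁻¹ i)
    rw [Equiv.Perm.inv_def, Equiv.symm_apply_eq, ha (s⁻¹ i), Equiv.Perm.inv_def,
      Equiv.apply_symm_apply]

theorem pairs_unique {a : Equiv.Perm (Fin 416)} {s t : Equiv.Perm (Fin 100)}
    (hs : (a, s) ∈ pairs) (ht : (a, t) ∈ pairs) : s = t :=
  Equiv.ext fun i => pt_injective ((hs i).symm.trans (ht i))

/-- The generated pairs. -/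
noncomputable def graph : Subgroup (Equiv.Perm (Fin 416) × Equiv.Perm (Fin 100)) :=
  Subgroup.closure (Set.range fun g => (hgen g, J2.setRep (J2.gE g)))

theorem graph_le_pairs : graph ≤ pairs := by
  rw [graph, Subgroup.closure_le]
  rintro _ ⟨g, rfl⟩
  exact hgen_pt g

/-- The group generated by the four elements. -/
noncomputable def four : Subgroup (Equiv.Perm (Fin 416)) := Subgroup.closure (Set.range hgen)

theorem graph_map_fst : graph.map (MonoidHom.fst _ _) = four := by
  rw [graph, MonoidHom.map_closure, four]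
  congr 1
  rw [← Set.range_comp]
  rfl

theorem graph_map_snd : graph.map (MonoidHom.snd _ _) = J2.setRep.range := by
  rw [graph, MonoidHom.map_closure, MonoidHom.range_eq_map J2.setRep,
    show (⊤ : Subgroup J2.PGrp) = Subgroup.closure (Set.range J2.gE) from ?_, MonoidHom.map_closure]
  · congr 1
    rw [← Set.range_comp, ← Set.range_comp]
    rfl
  · symm
    apply Subgroup.map_injective J2.PGrp.subtype_injective
    rw [MonoidHom.map_closure, ← Set.range_comp, ← MonoidHom.range_eq_map, Subgroup.range_subtype]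
    exact J2.range_eq_closure.symm

theorem card_snd : Nat.card (graph.map (MonoidHom.snd _ _) : Subgroup (Equiv.Perm (Fin 100))) = 604800 := by
  rw [graph_map_snd, ← Nat.card_congr J2.hundredEquiv.toEquiv, J2.card_PGrp]

theorem card_four_ge : 604800 ≤ Nat.card four := by
  have hinj : Function.Injective (fun p : graph => (⟨p.1.1, graph_map_fst ▸ ⟨p.1, p.2, rfl⟩⟩ : four)) := by
    rintro ⟨⟨a, s⟩, hp⟩ ⟨⟨b, t⟩, hq⟩ e
    obtain rfl : a = b := congrArg Subtype.val e
    exact Subtype.ext (Prod.ext rfl (pairs_unique (graph_le_pairs hp) (graph_le_pairs hq)))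
  refine le_trans ?_ (Nat.card_le_card_of_injective _ hinj)
  rw [← card_snd]
  exact Nat.le_of_dvd Nat.card_pos (Subgroup.card_map_dvd _ _)

theorem four_le_five : four ≤ five := by
  rw [four, Subgroup.closure_le]
  rintro _ ⟨g, rfl⟩
  exact hgen_mem g

theorem card_five_ge : 604800 ≤ Nat.card five :=
  card_four_ge.trans (Nat.le_of_dvd Nat.card_pos (Subgroup.card_dvd_of_le four_le_five))

theorem five_fix : five ≤ stabilizer (Equiv.Perm (Fin 416)) base := by
  have h : ∀ g : Fin 5, img tab 6 g 209 = 209 := by decide +kernel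
  rw [five, Subgroup.closure_le]
  rintro _ ⟨g, hg, rfl⟩
  exact Fin.ext ((prm_apply (show g < 6 by have : g < 5 := hg; omega) base).trans (h ⟨g, hg⟩))

theorem wordsAll_le : wordsGrp partsAll ≤ five := wordsGrp_le_five all_ok

theorem conn_five {z z' : Fin 416} (hz : nib 4 partsAll.part z ≠ 0)
    (he : nib 4 partsAll.part z = nib 4 partsAll.part z') : ∃ x ∈ five, x z = z' := by
  obtain ⟨x, hx, h⟩ := parts_conn all_ok hz he
  exact ⟨x, wordsAll_le hx, h⟩

theorem part_all_pos : ∀ z : Fin 416, nib 4 partsAll.part z ≠ 0 := by decide +kernel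

theorem exists_move (z : Fin 416) : ∃ x ∈ grp, x base = z := by
  have h2 : nib 4 partsAll.part (twalk tab 6 [5, 1, 2, 3, 2, 1, 5] 209) = 2 ∧
      nib 4 partsAll.part (twalk tab 6 [5] 209) = 3 ∧ nib 4 partsAll.part 209 = 1 := by decide +kernel
  have hmem : ∀ w : List ℕ, (∀ g ∈ w, g < 6) → wordVal prm w ∈ grp := fun w hw =>
    Subgroup.closure_mono (Set.image_mono fun g hg => List.mem_range.1 hg)
      (wordVal_mem prm (u := w) (S := List.range 6) fun g hg =>
        ⟨List.mem_range.2 (hw g hg), by have := hw g hg; simp only [eps]; omega⟩)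
  have key : ∀ w : List ℕ, (∀ g ∈ w, g < 6) →
      nib 4 partsAll.part (twalk tab 6 w 209) = nib 4 partsAll.part z → ∃ x ∈ grp, x base = z := by
    intro w hw he
    have e : ((wordVal prm w base : Fin 416) : ℕ) = twalk tab 6 w 209 := wordVal_apply hw base
    obtain ⟨x, hx, hxz⟩ := conn_five (part_all_pos (wordVal prm w base))
      (z' := z) (by rw [e]; exact he)
    exact ⟨x * wordVal prm w, mul_mem (five_le_grp hx) (hmem w hw), hxz⟩
  have h3 := (parts_get all_ok z).2.2.1
  have h0 := part_all_pos z
  have hl : partsAll.roots.length = 3 := rfl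
  rcases (by omega : nib 4 partsAll.part z = 1 ∨ nib 4 partsAll.part z = 2 ∨
    nib 4 partsAll.part z = 3) with hc | hc | hc
  · exact key [] (by simp) (by rw [hc, twalk_nil]; exact h2.2.2)
  · exact key [5, 1, 2, 3, 2, 1, 5] (by decide) (by rw [hc]; exact h2.1)
  · exact key [5] (by decide) (by rw [hc]; exact h2.2.1)

theorem orbit_grp : orbit grp base = Set.univ :=
  Set.eq_univ_of_forall fun z => let ⟨x, hx, h⟩ := exists_move z; ⟨⟨x, hx⟩, h⟩

/-- The point stabiliser. -/
noncomputable def stab : Subgroup grp := stabilizer grp base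

theorem index_stab : stab.index = 416 := by
  rw [stab, index_stabilizer, orbit_grp, Set.ncard_univ, Nat.card_fin]

theorem five_sub_stab : five.subgroupOf grp ≤ stab := fun x hx => five_fix (Subgroup.mem_subgroupOf.1 hx)

theorem card_stab_ge : 604800 ≤ Nat.card stab := by
  refine card_five_ge.trans ?_
  rw [← Nat.card_congr (Subgroup.subgroupOfEquivOfLe five_le_grp).toEquiv]
  exact Nat.le_of_dvd Nat.card_pos (Subgroup.card_dvd_of_le five_sub_stab)

theorem card_grp_ge : 251596800 ≤ Nat.card grp := by
  rw [← stab.card_mul_index, index_stab]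
  calc 251596800 = 604800 * 416 := by norm_num
    _ ≤ _ := Nat.mul_le_mul_right _ card_stab_ge

variable (hcard : Nat.card grp = 251596800)
include hcard

theorem card_stab : Nat.card stab = 604800 := by
  have := stab.card_mul_index
  rw [index_stab, hcard] at this
  omega

theorem stab_map : stab.map grp.subtype = four := by
  symm
  refine Subgroup.eq_of_le_of_card_ge ?_ ?_
  · intro x hx
    exact ⟨⟨x, five_le_grp (four_le_five hx)⟩, five_fix (four_le_five hx), rfl⟩
  · rw [Subgroup.card_map_of_injective grp.subtype_injective, card_stab hcard]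
    exact card_four_ge

theorem five_eq_four : five = four :=
  le_antisymm (fun x hx => stab_map hcard ▸ ⟨⟨x, five_le_grp hx⟩, five_fix hx, rfl⟩) four_le_five

theorem isoJ2_stab : Nonempty (stab ≃* J2.PGrp) := by
  let f : graph →* four := ((MonoidHom.fst _ _).subgroupMap graph |> fun f =>
    (MulEquiv.subgroupCongr graph_map_fst).toMonoidHom.comp f)
  let s : graph →* (graph.map (MonoidHom.snd _ _) : Subgroup (Equiv.Perm (Fin 100))) :=
    (MonoidHom.snd _ _).subgroupMap graph
  have hf : Function.Bijective f := by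
    refine ⟨?_, ?_⟩
    · rintro ⟨⟨a, p⟩, hp⟩ ⟨⟨b, q⟩, hq⟩ e
      obtain rfl : a = b := congrArg Subtype.val e
      exact Subtype.ext (Prod.ext rfl (pairs_unique (graph_le_pairs hp) (graph_le_pairs hq)))
    · exact (MulEquiv.subgroupCongr graph_map_fst).surjective.comp (MonoidHom.subgroupMap_surjective _ _)
  have hs : Function.Bijective s := by
    refine (MonoidHom.subgroupMap_surjective _ _).bijective_of_nat_card_le ?_
    rw [card_snd, Nat.card_eq_of_bijective f hf, ← stab_map hcard,
      Subgroup.card_map_of_injective grp.subtype_injective, card_stab hcard]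
  exact ⟨((stab.equivMapOfInjective _ grp.subtype_injective).trans
    (MulEquiv.subgroupCongr (stab_map hcard))).trans ((MulEquiv.ofBijective f hf).symm.trans
      ((MulEquiv.ofBijective s hs).trans ((MulEquiv.subgroupCongr graph_map_snd).trans
        J2.hundredEquiv.symm)))⟩

theorem isCoatom_stab : IsCoatom stab := by
  refine isCoatom_of_parts all_ok all_sizes le_rfl grp rfl ?_ (wordsAll_le.trans five_le_grp)
    (by decide +kernel) (by decide +kernel)
  exact fun z _ => exists_move z

theorem isCoatom_five (z : Fin 416) (hz : z ≠ base) : IsCoatom (stabilizer five z) := by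
  have hsub : ∀ z : Fin 416, (nib 4 partsA.part z ≠ 0 → nib 4 partsAll.part z = 2) ∧
      (nib 4 partsB.part z ≠ 0 → nib 4 partsAll.part z = 3) ∧
      (nib 4 partsAll.part z = 1 → z = 209) := by decide +kernel
  have hb : partsA.base = 0 ∧ partsB.base = 4 ∧ nib 4 partsAll.part 0 = 2 ∧
      nib 4 partsAll.part 4 = 3 := by decide +kernel
  have hA : IsCoatom (stabilizer five (0 : Fin 416)) :=
    isCoatom_of_parts a_ok a_sizes (by omega) five rfl
      (fun y hy => conn_five (part_all_pos _) (hb.2.2.1.trans ((hsub y).1 hy).symm))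
      (wordsGrp_le_five a_ok) (by decide +kernel) (by decide +kernel)
  have hB : IsCoatom (stabilizer five (4 : Fin 416)) :=
    isCoatom_of_parts b_ok b_sizes (by omega) five rfl
      (fun y hy => conn_five (part_all_pos _) (hb.2.2.2.trans ((hsub y).2.1 hy).symm))
      (wordsGrp_le_five b_ok) (by decide +kernel) (by decide +kernel)
  have h3 : nib 4 partsAll.part z ≤ 3 := (parts_get all_ok z).2.2.1
  have h0 := part_all_pos z
  have h1 : nib 4 partsAll.part z ≠ 1 := fun h => hz ((hsub z).2.2 h)
  rcases (by omega : nib 4 partsAll.part z = 2 ∨ nib 4 partsAll.part z = 3) with hc | hc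
  · obtain ⟨x, hx, rfl⟩ := conn_five (part_all_pos (0 : Fin 416)) (z' := z)
      (by rw [hc]; exact hb.2.2.1)
    exact isCoatom_stabilizer_smul (⟨x, hx⟩ : five) hA
  · obtain ⟨x, hx, rfl⟩ := conn_five (part_all_pos (4 : Fin 416)) (z' := z)
      (by rw [hc]; exact hb.2.2.2)
    exact isCoatom_stabilizer_smul (⟨x, hx⟩ : five) hB

theorem isCoatom_inter {y : grp} (hy : y ∉ stab) :
    IsCoatom ((stab ⊓ stab.map (MulAut.conj y).toMonoidHom).subgroupOf stab) := by
  have hz : (y : Equiv.Perm (Fin 416)) base ≠ base := hy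
  have hfive : ∀ x : grp, x ∈ stab ↔ (x : Equiv.Perm (Fin 416)) ∈ five := fun x => by
    rw [five_eq_four hcard, ← stab_map hcard]
    exact (Subgroup.mem_map_iff_mem grp.subtype_injective).symm
  let e : stab ≃* five :=
    { toFun := fun x => ⟨x.1.1, (hfive x.1).1 x.2⟩
      invFun := fun x => ⟨⟨x.1, five_le_grp x.2⟩, (hfive _).2 x.2⟩
      left_inv := fun _ => rfl
      right_inv := fun _ => rfl
      map_mul' := fun _ _ => rfl }
  have he : (stab ⊓ stab.map (MulAut.conj y).toMonoidHom).subgroupOf stab =
      (stabilizer five ((y : Equiv.Perm (Fin 416)) base)).comap e.toMonoidHom := by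
    rw [show stab.map (MulAut.conj y).toMonoidHom = stabilizer grp (y • base) from
      (stabilizer_smul_eq_stabilizer_map_conj y base).symm]
    ext x
    exact ⟨fun h => (Subgroup.mem_subgroupOf.1 h).2, fun h => Subgroup.mem_subgroupOf.2 ⟨x.2, h⟩⟩
  rw [he]
  have := isCoatom_five hcard _ hz
  rw [Subgroup.comap_equiv_eq_map_symm']
  exact (e.symm.mapSubgroup.isCoatom_iff _).2 this

end Cfsg.Lib.GTwoFour416
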