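import Cfsg.Agent.Lib.GTwoFour416.CoverTables
import Cfsg.Agent.Lib.GTwoFour416.Main
import Cfsg.Agent.Lib.Schur.StemIndex
import Cfsg.Agent.Lib.Schur.Universe

/-!
# The double cover of `G₂(4)` and the multiplier of the group on 416 points
-/

set_option autoImplicit false
set_option maxRecDepth 4000

namespace Cfsg.Lib.GTwoFour416.Cover

open Cfsg.Lib.CosetEnum Cfsg.Lib.Concrete MulAction
open scoped commutatorElement
open Cfsg.Lib.J2.Mult (Cov200 cGen cWord flipPt basePt liftPt gV)

/-- Signed arcs. -/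
abbrev Pt : Type := Fin 416 × Fin 200

theorem nib_lt (b T i : ℕ) : nib b T i < 2 ^ b := Nat.mod_lt _ (by positivity)

/-- The reversal. -/
noncomputable def revF (a : Pt) : Pt := (Fin.ofNat 416 (nbN a.1 a.2), Fin.ofNat 200 (revL a.1 a.2))

theorem revF_flip (x : Fin 416) (l : Fin 200) :
    revF (x, flipPt l) = ((revF (x, l)).1, flipPt (revF (x, l)).2) := by
  have he : revE x (flipPt l : Fin 200) = revE x l := by
    simp only [revE, force_eq, flipPt]
    congr 1
    omega
  refine Prod.ext ?_ ?_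
  · simp only [revF, nbN, he]
  · refine Fin.ext ?_
    simp only [revF, revL, he, force_eq, Fin.ofNat]
    simp only [flipPt]
    omega

/-- The point permutation of a generator. -/
noncomputable def sigP (i : Fin 2) : Equiv.Perm (Fin 416) := wordVal prm (genW i)

theorem genW_lt (i : Fin 2) : ∀ g ∈ genW i, g < 6 := fun g hg =>
  Nat.blt_eq.mp (List.all_eq_true.1 (sig_words i).1 g hg)

theorem sigP_val (i : Fin 2) (x : Fin 416) : (sigP i x : ℕ) = sigN i x := by
  rw [sigP, wordVal_apply (genW_lt i)]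
  exact (sig_words i).2 x

theorem sigP_mem (i : Fin 2) : sigP i ∈ grp :=
  Subgroup.closure_mono (Set.image_mono fun g hg => List.mem_range.1 hg)
    (wordVal_mem prm (u := genW i) (S := List.range 6) fun g hg =>
      ⟨List.mem_range.2 (genW_lt i g hg), by have := genW_lt i g hg; simp only [eps]; omega⟩)

/-- A fibre map as an element of the cover of the stabiliser. -/
def ellEl (i : Fin 2) (x : Fin 416) : Cov200 := cWord (ellW i x)

theorem cWord_val (W : List ℕ) (l : Fin 200) :
    (((cWord W : Cov200) : Equiv.Perm (Fin 200)) l : ℕ) = wEval W l := by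
  induction W with
  | nil => simp [cWord, wordProd, wEval]
  | cons i W ih =>
    rw [show cWord (i :: W) = cGen i * cWord W by simp [cWord, wordProd], Subgroup.coe_mul,
      Equiv.Perm.mul_apply, show wEval (i :: W) l = gV (i % 2) (wEval W l) from rfl, ← ih]
    rfl

theorem letterStep_eq (j y : ℕ) : letterStep j y = gV j y := by
  rw [letterStep, force_eq, gV, J2.Pt.entry]
  exact Nat.and_two_pow_sub_one_eq_mod _ 8

theorem wCode_eq : ∀ (n c l : ℕ), wCode n c l = wEval (bits n c) l := by
  intro n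
  induction n with
  | zero => intro c l; rfl
  | succ n ih =>
    intro c l
    show force c (fun c => cond (Nat.ble 2 c) (letterStep (Nat.land c 1) (wCode n (Nat.shiftRight c 1) l)) l) = _
    rw [force_eq, bits]
    cases Nat.ble 2 c
    · rfl
    · simp only [cond_true, letterStep_eq, ih]
      rw [show Nat.land c 1 = c % 2 from Nat.and_one_is_mod c,
        show Nat.shiftRight c 1 = c / 2 from Nat.shiftRight_one c]
      show gV (c % 2) _ = gV (c % 2 % 2) _
      rw [Nat.mod_mod]
      rfl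

theorem ellN_eq (i x l : ℕ) : ellN i x l = wEval (ellW i x) l := by
  rw [ellN, force_eq, wCode_eq]
  rfl

/-- A generator on signed arcs. -/
noncomputable def gP (i : Fin 2) : Equiv.Perm Pt :=
  Equiv.prodShear (sigP i) fun x => (ellEl i x : Equiv.Perm (Fin 200))

theorem gP_apply (i : Fin 2) (x : Fin 416) (l : Fin 200) :
    gP i (x, l) = (sigP i x, (ellEl i x : Equiv.Perm (Fin 200)) l) := rfl

theorem ell_val (i : Fin 2) (x : Fin 416) (l : Fin 200) :
    ((ellEl i x : Equiv.Perm (Fin 200)) l : ℕ) = ellN i x l :=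
  (cWord_val _ l).trans (ellN_eq i x l).symm

theorem fibre_ok (i : Fin 2) (x : Fin 416) (k : Fin 100) :
    nbN x k < 416 ∧ nbN (sigN i x) (ellN i x k) = sigN i (nbN x k) ∧
      revL (sigN i x) (ellN i x k) = ellN i (nbN x k) (revL x k) := by
  have h : fibreOK i x = true := by
    have get : ∀ {f : ℕ → Bool}, (List.range 104).all f = true → ∀ y < 104, f y = true :=
      fun h y hy => List.all_eq_true.1 h y (List.mem_range.2 hy)
    obtain ⟨y, hy, hx⟩ : ∃ y < 104, (x : ℕ) = 0 + y ∨ (x : ℕ) = 104 + y ∨ (x : ℕ) = 208 + y ∨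
        (x : ℕ) = 312 + y := ⟨(x : ℕ) % 104, Nat.mod_lt _ (by norm_num), by omega⟩
    fin_cases i <;> rcases hx with hx | hx | hx | hx <;> rw [hx]
    exacts [get fibres_zero_0 y hy, get fibres_zero_1 y hy, get fibres_zero_2 y hy, get fibres_zero_3 y hy,
      get fibres_one_0 y hy, get fibres_one_1 y hy, get fibres_one_2 y hy, get fibres_one_3 y hy]
  simp only [fibreOK, force_eq, List.all_eq_true, List.mem_range, Bool.and_eq_true, Nat.blt_eq,
    Nat.beq_eq] at h
  obtain ⟨⟨⟨h1, h4⟩, h2⟩, h3⟩ := h k k.isLt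
  have hf : ∀ r j, fieldR r j = nib 17 r j := fun r j => Nat.and_two_pow_sub_one_eq_mod _ 17
  have h8 : ∀ e, Nat.shiftRight e 8 = e / 256 := fun e => Nat.shiftRight_eq_div_pow e 8
  have h255 : ∀ e, Nat.land e 255 = e % 256 := fun e => Nat.and_two_pow_sub_one_eq_mod e 8
  have hk : (k : ℕ) % 100 = k := Nat.mod_eq_of_lt k.isLt
  have hk0 : (k : ℕ) / 100 = 0 := Nat.div_eq_of_lt k.isLt
  simp only [hf, h8, h255, Nat.add_eq, Nat.mul_eq] at h1 h2 h3 h4
  have hl : ellN i x k = wCode 28 (nib 28 (ellTab i) x) k := by rw [ellN, force_eq]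
  rw [← hl] at h2 h3
  simp only [nbN, revL, revE, force_eq, hk, hk0, Nat.mul_zero, Nat.add_zero, Nat.mod_eq_of_lt h4]
  exact ⟨h1, h2, h3⟩

theorem gP_rev (i : Fin 2) (a : Pt) : gP i (revF a) = revF (gP i a) := by
  have key : ∀ (x : Fin 416) (k : Fin 100), gP i (revF (x, liftPt k)) = revF (gP i (x, liftPt k)) := by
    intro x k
    obtain ⟨h1, h2, h3⟩ := fibre_ok i x k
    have hm : revL x k < 200 := by
      simp only [revL, force_eq]
      omega
    rw [gP_apply, revF, gP_apply, revF]
    refine Prod.ext (Fin.ext ?_) (Fin.ext ?_)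
    · show (sigP i _ : ℕ) = nbN _ _ % 416
      rw [sigP_val, sigP_val, ell_val]
      simp only [liftPt, Fin.ofNat, Nat.mod_eq_of_lt h1]
      rw [h2, Nat.mod_eq_of_lt]
      have := (sigP i ⟨_, h1⟩).isLt
      rwa [sigP_val] at this
    · show ((ellEl i _ : Equiv.Perm (Fin 200)) _ : ℕ) = revL _ _ % 200
      rw [ell_val, sigP_val, ell_val]
      simp only [liftPt, Fin.ofNat, Nat.mod_eq_of_lt h1, Nat.mod_eq_of_lt hm]
      rw [h3, Nat.mod_eq_of_lt]
      have := ((ellEl i ⟨_, h1⟩ : Equiv.Perm (Fin 200)) ⟨_, hm⟩).isLt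
      rwa [ell_val] at this
  obtain ⟨x, l⟩ := a
  rcases J2.Mult.lift_cases l with h | h <;> rw [h]
  · exact key x _
  · have hgf : ∀ (y : Fin 416) (m : Fin 200),
        gP i (y, flipPt m) = ((gP i (y, m)).1, flipPt (gP i (y, m)).2) := fun y m => by
      rw [gP_apply, (J2.Mult.mem_Cov200 (ellEl i y).2).1]
      rfl
    rw [revF_flip, hgf, hgf, revF_flip, Prod.mk.eta, Prod.mk.eta, key x (basePt l)]

/-- Permutations of the arcs commuting with the reversal and mapping fibres by the cover. -/
def good : Subgroup (Equiv.Perm Pt) where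
  carrier := {g | (∀ a, g (revF a) = revF (g a)) ∧
    ∀ x, ∃ (y : Fin 416) (c : Cov200), ∀ l, g (x, l) = (y, (c : Equiv.Perm (Fin 200)) l)}
  one_mem' := ⟨fun _ => rfl, fun x => ⟨x, 1, fun _ => rfl⟩⟩
  mul_mem' := by
    rintro a b ⟨ha, ha'⟩ ⟨hb, hb'⟩
    refine ⟨fun z => by rw [Equiv.Perm.mul_apply, Equiv.Perm.mul_apply, hb, ha], fun x => ?_⟩
    obtain ⟨y, c, hc⟩ := hb' x
    obtain ⟨z, d, hd⟩ := ha' y
    exact ⟨z, d * c, fun l => by rw [Equiv.Perm.mul_apply, hc, hd]; rfl⟩
  inv_mem' := by
    rintro a ⟨ha, ha'⟩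
    refine ⟨fun z => a.injective ?_, fun y => ?_⟩
    · rw [ha, Equiv.Perm.coe_inv, Equiv.apply_symm_apply, Equiv.apply_symm_apply]
    · obtain ⟨y', c, hc⟩ := ha' (a⁻¹ (y, 0)).1
      obtain rfl : y' = y := by
        have := hc (a⁻¹ (y, 0)).2
        rw [Prod.mk.eta, Equiv.Perm.coe_inv, Equiv.apply_symm_apply] at this
        exact (congrArg Prod.fst this).symm
      refine ⟨(a⁻¹ (y', 0)).1, c⁻¹, fun l => a.injective ?_⟩
      rw [hc, Equiv.Perm.coe_inv, Equiv.apply_symm_apply, Subgroup.coe_inv, Equiv.Perm.coe_inv,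
        Equiv.apply_symm_apply]

/-- The double cover. -/
abbrev Gam : Subgroup (Equiv.Perm Pt) := Subgroup.closure (Set.range gP)

theorem gam_le : Gam ≤ good := by
  rw [Subgroup.closure_le]
  rintro _ ⟨i, rfl⟩
  exact ⟨gP_rev i, fun x => ⟨sigP i x, ellEl i x, gP_apply i x⟩⟩

/-- The image of a point. -/
noncomputable def ptMap (g : Gam) (x : Fin 416) : Fin 416 := ((g : Equiv.Perm Pt) (x, 0)).1

theorem exists_fibre (g : Gam) (x : Fin 416) :
    ∃ c : Cov200, ∀ l, (g : Equiv.Perm Pt) (x, l) = (ptMap g x, (c : Equiv.Perm (Fin 200)) l) := by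
  obtain ⟨y, c, hc⟩ := (gam_le g.2).2 x
  exact ⟨c, fun l => by rw [ptMap, hc, hc 0]⟩

/-- The fibre map at a point. -/
noncomputable def fib (g : Gam) (x : Fin 416) : Cov200 := (exists_fibre g x).choose

theorem fib_spec (g : Gam) (x : Fin 416) (l : Fin 200) :
    (g : Equiv.Perm Pt) (x, l) = (ptMap g x, (fib g x : Equiv.Perm (Fin 200)) l) :=
  (exists_fibre g x).choose_spec l

theorem fib_unique {g : Gam} {x y : Fin 416} {c : Cov200}
    (h : ∀ l, (g : Equiv.Perm Pt) (x, l) = (y, (c : Equiv.Perm (Fin 200)) l)) : fib g x = c := by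
  refine Subtype.ext (Equiv.ext fun l => ?_)
  have := h l
  rw [fib_spec] at this
  exact congrArg Prod.snd this

theorem ptMap_injective (g : Gam) : Function.Injective (ptMap g) := by
  intro x x' h
  have : (g : Equiv.Perm Pt) (x, (fib g x : Equiv.Perm (Fin 200))⁻¹ ((fib g x' : Equiv.Perm (Fin 200)) 0)) =
      (g : Equiv.Perm Pt) (x', 0) := by
    rw [fib_spec, fib_spec, h, Equiv.Perm.coe_inv, Equiv.apply_symm_apply]
  exact congrArg Prod.fst ((g : Equiv.Perm Pt).injective this)

/-- The action on points. -/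
noncomputable def proj : Gam →* Equiv.Perm (Fin 416) :=
  MonoidHom.mk' (fun g => Equiv.ofBijective (ptMap g) (Finite.injective_iff_bijective.mp (ptMap_injective g)))
    fun g h => Equiv.ext fun x => by
      show ptMap (g * h) x = ptMap g (ptMap h x)
      have h1 : ((g * h : Gam) : Equiv.Perm Pt) (x, 0) =
          (g : Equiv.Perm Pt) ((h : Equiv.Perm Pt) (x, 0)) := rfl
      rw [ptMap, h1, fib_spec h, fib_spec g]

theorem proj_apply (g : Gam) (x : Fin 416) : proj g x = ptMap g x := rfl

noncomputable instance actPoints : MulAction Gam (Fin 416) := MulAction.compHom _ proj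

theorem smul_def (g : Gam) (x : Fin 416) : g • x = ptMap g x := rfl

/-- The generators as elements. -/
noncomputable def sGen (i : ℕ) : Gam := ⟨gP (Fin.ofNat 2 i), Subgroup.subset_closure ⟨_, rfl⟩⟩

theorem sGen_closure : Subgroup.closure {g | g = sGen 0 ∨ g = sGen 1} = ⊤ := by
  refine top_le_iff.1 ?_
  rw [← Subgroup.closure_closure_coe_preimage]
  refine Subgroup.closure_mono ?_
  rintro ⟨x, hx⟩ ⟨i, hi⟩
  have hi' : gP i = x := hi
  fin_cases i
  · exact Or.inl (Subtype.ext hi'.symm)
  · exact Or.inr (Subtype.ext hi'.symm)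

theorem proj_sGen (i : Fin 2) : proj (sGen i) = sigP i := by
  refine Equiv.ext fun x => ?_
  rw [proj_apply, ptMap]
  show (gP (Fin.ofNat 2 i) (x, 0)).1 = _
  rw [show Fin.ofNat 2 (i : ℕ) = i from Fin.ext (Nat.mod_eq_of_lt i.isLt)]
  rfl

theorem proj_range_le : proj.range ≤ grp := by
  rw [MonoidHom.range_eq_map, ← sGen_closure, MonoidHom.map_closure, Subgroup.closure_le]
  rintro _ ⟨_, rfl | rfl, rfl⟩
  · exact (proj_sGen 0).symm ▸ sigP_mem 0
  · exact (proj_sGen 1).symm ▸ sigP_mem 1

theorem walk_val (W : List ℕ) (x : Fin 416) (l : Fin 200) :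
    ((((wordProd sGen W : Gam) : Equiv.Perm Pt) (x, l)).1 : ℕ) * 200 +
        ((((wordProd sGen W : Gam) : Equiv.Perm Pt) (x, l)).2 : ℕ) = arcWalk W ((x : ℕ) * 200 + l) := by
  induction W with
  | nil => simp [wordProd, arcWalk]
  | cons i W ih =>
    rw [show wordProd sGen (i :: W) = sGen i * wordProd sGen W by simp [wordProd],
      show arcWalk (i :: W) ((x : ℕ) * 200 + l) = arcStep i (arcWalk W ((x : ℕ) * 200 + l)) from rfl,
      ← ih, Subgroup.coe_mul, Equiv.Perm.mul_apply]
    obtain ⟨y, m⟩ := ((wordProd sGen W : Gam) : Equiv.Perm Pt) (x, l)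
    show ((gP (Fin.ofNat 2 i) (y, m)).1 : ℕ) * 200 + ((gP (Fin.ofNat 2 i) (y, m)).2 : ℕ) = _
    rw [gP_apply, sigP_val, ell_val]
    simp only [arcStep, force_eq, Fin.ofNat]
    rw [show ((y : ℕ) * 200 + m) / 200 = y by omega, show ((y : ℕ) * 200 + m) % 200 = m by omega]

theorem walk_eq {W : List ℕ} {x y : Fin 416} {l m : Fin 200}
    (h : arcWalk W ((x : ℕ) * 200 + l) = (y : ℕ) * 200 + m) :
    ((wordProd sGen W : Gam) : Equiv.Perm Pt) (x, l) = (y, m) := by
  have h1 := (walk_val W x l).trans h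
  refine Prod.ext (Fin.ext ?_) (Fin.ext ?_) <;> simp only <;> omega

/-! ### The stabiliser -/

/-- The stabiliser of the base point. -/
noncomputable abbrev stab0 : Subgroup Gam := stabilizer Gam base

/-- The stabiliser on the fibre at the base point. -/
noncomputable def psi : stab0 →* Cov200 := MonoidHom.mk' (fun g => fib g.1 base) fun g h => by
  have hh : ptMap h.1 base = base := h.2
  refine fib_unique (y := ptMap g.1 base) fun l => ?_
  rw [Subgroup.coe_mul, Subgroup.coe_mul, Equiv.Perm.mul_apply, fib_spec h.1, hh, fib_spec g.1]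
  rfl

theorem psi_gen (i : Fin 2) : ∃ g : stab0, psi g = cGen i := by
  have hv : ∀ l : Fin 200, ((wordProd sGen (stabW i) : Gam) : Equiv.Perm Pt) (base, l) =
      (base, J2.Mult.cPerm i l) := fun l => by
    have h := stab_words
    simp only [List.all_eq_true, List.mem_range, Nat.beq_eq] at h
    exact walk_eq (h i i.isLt l l.isLt)
  refine ⟨⟨wordProd sGen (stabW i), ?_⟩, ?_⟩
  · show ptMap _ base = base
    rw [ptMap, hv]
  · refine fib_unique (y := base) fun l => ?_
    rw [hv]
    show _ = (base, J2.Mult.cPerm (Fin.ofNat 2 (i : ℕ)) l)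
    rw [show Fin.ofNat 2 (i : ℕ) = i from Fin.ext (Nat.mod_eq_of_lt i.isLt)]

theorem psi_surjective : Function.Surjective psi := by
  rw [← MonoidHom.range_eq_top, ← top_le_iff, ← J2.Mult.cGen_closure, Subgroup.closure_le]
  rintro _ (rfl | rfl)
  · exact psi_gen 0
  · exact psi_gen 1

/-- A point of the certificate. -/
def ptC (x : ℕ) : Fin 416 := Fin.ofNat 416 (nib 9 ptTab x)

theorem certTwo_N : certTwo.N = 416 := rfl

theorem ptC_inj : ∀ x < certTwo.N, ∀ y < certTwo.N, ptC x = ptC y → x = y := by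
  intro x hx y hy h
  rw [certTwo_N] at hx hy
  obtain ⟨hx', hall⟩ := pts_inj ⟨x, hx⟩
  obtain ⟨hy', -⟩ := pts_inj ⟨y, hy⟩
  have h' := congrArg Fin.val h
  simp only [ptC, Fin.ofNat, Nat.mod_eq_of_lt hx', Nat.mod_eq_of_lt hy'] at h'
  simp only [List.all_eq_true, List.mem_range, Bool.or_eq_true, Bool.not_eq_true',
    Nat.beq_eq] at hall
  rcases hall y hy with e | e
  · exact e.symm
  · rw [h'] at e
    simp at e

theorem ptC_zero : ptC 0 = base := Fin.ext (by simp [ptC, pts_base, base])

theorem sGen_ptC (i : ℕ) (hi : i < 2) (x : ℕ) (hx : x < certTwo.N) :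
    sGen i • ptC x = ptC (certTwo.tab i x) := by
  rw [certTwo_N] at hx
  have h := pts_table
  simp only [List.all_eq_true, List.mem_range, Nat.beq_eq] at h
  have hlt := (pts_inj ⟨x, hx⟩).1
  rw [smul_def, ← proj_apply, proj_sGen ⟨i, hi⟩]
  refine Fin.ext ?_
  rw [sigP_val]
  simp only [ptC, Fin.ofNat, Nat.mod_eq_of_lt hlt]
  rw [h i hi x hx, Nat.mod_eq_of_lt]
  rw [← h i hi x hx]
  have := (sigP ⟨i, hi⟩ ⟨_, hlt⟩).isLt
  rwa [sigP_val] at this

theorem shape : certTwo.shapeOk = true := StemPerm.shape_of_check _ certTwo_check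

theorem index_stab0 : stab0.index = 416 := by
  show (stabilizer Gam base).index = 416
  rw [← ptC_zero]
  exact StemPerm.index_stab certTwo shape ptC sGen sGen_closure sGen_ptC ptC_inj

theorem ptC_surj (z : Fin 416) : ∃ x : Fin 416, ptC x = z :=
  (Finite.injective_iff_surjective.mp
    (fun a b h => Fin.ext (ptC_inj a a.isLt b b.isLt h) : Function.Injective fun a : Fin 416 => ptC a)) z

/-! ### The kernel -/

theorem distinctFrom_spec {x : ℕ} : ∀ {n k M : ℕ}, distinctFrom x n k M = true →
    ∀ j, k ≤ j → j < k + n → Nat.testBit M (nbN x j) = false ∧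
      ∀ j', j < j' → j' < k + n → nbN x j ≠ nbN x j' := by
  intro n
  induction n with
  | zero => intro k M _ j h1 h2; omega
  | succ n ih =>
    intro k M h j h1 h2
    simp only [distinctFrom, force_eq, Bool.and_eq_true, Bool.not_eq_true'] at h
    obtain ⟨hk, hrec⟩ := h
    have hor : ∀ j, k < j → j < k + (n + 1) →
        Nat.testBit M (nbN x j) = false ∧ nbN x k ≠ nbN x j := by
      intro j a b
      have := (ih hrec j (by omega) (by omega)).1
      simp only [Nat.lor, Nat.shiftLeft_eq'] at this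
      change Nat.testBit (M ||| 1 <<< nbN x k) _ = false at this
      rw [Nat.testBit_or, Bool.or_eq_false_iff, Nat.one_shiftLeft, Nat.testBit_two_pow,
        decide_eq_false_iff_not] at this
      exact this
    rcases Nat.eq_or_lt_of_le h1 with rfl | hlt
    · exact ⟨hk, fun j' a b => (hor j' a b).2⟩
    · exact ⟨(hor j hlt h2).1, fun j' a b => (ih hrec j (by omega) (by omega)).2 j' a (by omega)⟩

theorem nb_injective (x : Fin 416) {k k' : Fin 100} (h : nbN x k = nbN x k') : k = k' := by
  have hd := List.all_eq_true.1 rows_distinct x (List.mem_range.2 x.isLt)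
  have hs := distinctFrom_spec hd
  rcases lt_trichotomy k k' with hl | hl | hl
  · exact absurd h ((hs k (Nat.zero_le _) (by omega)).2 k' hl (by omega))
  · exact hl
  · exact absurd h.symm ((hs k' (Nat.zero_le _) (by omega)).2 k hl (by omega))

theorem rev_base (x : Fin 416) (l : Fin 200) : (revF (x, l)).1 = (revF (x, liftPt (basePt l))).1 := by
  rcases J2.Mult.lift_cases l with h | h
  · rw [← h]
  · conv_lhs => rw [h, revF_flip]

variable {g : Gam} (hg : proj g = 1)
include hg

theorem ker_fix (x : Fin 416) : ptMap g x = x := by rw [← proj_apply, hg]; rfl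

theorem ker_rev (x : Fin 416) (l : Fin 200) :
    revF (x, (fib g x : Equiv.Perm (Fin 200)) l) =
      ((revF (x, l)).1, (fib g (revF (x, l)).1 : Equiv.Perm (Fin 200)) (revF (x, l)).2) := by
  have h := (gam_le g.2).1 (x, l)
  rw [fib_spec g x, ker_fix hg] at h
  rw [← h]
  conv_lhs => rw [show revF (x, l) = ((revF (x, l)).1, (revF (x, l)).2) from rfl, fib_spec, ker_fix hg]

theorem fib_cases (x : Fin 416) : fib g x = 1 ∨ fib g x = J2.Mult.tau := by
  refine J2.Mult.ker_cases (Equiv.ext fun p => ?_)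
  have h := congrArg Prod.fst (ker_rev hg x (liftPt p))
  rw [rev_base] at h
  have h' := congrArg Fin.val h
  have hq := (fibre_ok 0 x (basePt ((fib g x : Equiv.Perm (Fin 200)) (liftPt p)))).1
  simp only [revF, Fin.ofNat, liftPt] at h' hq
  rw [Nat.mod_eq_of_lt hq, Nat.mod_eq_of_lt (fibre_ok 0 x p).1] at h'
  rw [← J2.Mult.base_lift p, J2.Mult.proj_apply]
  exact (nb_injective x h').trans (J2.Mult.base_lift p).symm

theorem fib_step (x : Fin 416) (k : Fin 200) (hy : fib g (revF (x, k)).1 = 1) : fib g x = 1 := by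
  rcases fib_cases hg x with h | h
  · exact h
  · exfalso
    have h' := ker_rev hg x k
    rw [h, J2.Mult.tau_apply, revF_flip, hy] at h'
    exact J2.Mult.flip_ne _ (congrArg Prod.snd h')

theorem ker_eq_one (h0 : (g : Equiv.Perm Pt) (base, 0) = (base, 0)) : g = 1 := by
  have hb : fib g base = 1 := by
    rcases fib_cases hg base with h | h
    · exact h
    · exfalso
      rw [fib_spec, h, J2.Mult.tau_apply] at h0
      exact J2.Mult.flip_ne 0 (congrArg Prod.snd h0)
  have hop : ∀ x : Fin 416, nib 8 hopTab x < 100 → ∀ y : Fin 416, (y : ℕ) = hopN x →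
      fib g y = 1 → fib g x = 1 := by
    intro x hk y hy h
    refine fib_step hg x (liftPt ⟨_, hk⟩) ?_
    convert h
    refine Fin.ext ?_
    simp only [revF, Fin.ofNat, liftPt]
    rw [show nbN x (nib 8 hopTab x) = y by rw [hy]; rfl, Nat.mod_eq_of_lt y.isLt]
  have hh : ∀ x : Fin 416, nib 8 hopTab x < 100 ∧ ((x : ℕ) = 209 ∨ hopN x < 416 ∧
      (hopN x = 209 ∨ hopN (hopN x) = 209)) := fun x => by
    have := List.all_eq_true.1 hops_ok x (List.mem_range.2 x.isLt)
    simpa only [force_eq, Bool.and_eq_true, Bool.or_eq_true, Nat.blt_eq, Nat.beq_eq] using this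
  have hall : ∀ x : Fin 416, fib g x = 1 := by
    intro x
    obtain ⟨hk, h | ⟨hy, h⟩⟩ := hh x
    · rwa [show x = base from Fin.ext h]
    · refine hop x hk ⟨hopN x, hy⟩ rfl ?_
      rcases h with h | h
      · rwa [show (⟨hopN x, hy⟩ : Fin 416) = base from Fin.ext h]
      · exact hop _ (hh ⟨hopN x, hy⟩).1 base h.symm hb
  refine Subtype.ext (Equiv.ext fun a => ?_)
  rw [show a = (a.1, a.2) from rfl, fib_spec, hall, ker_fix hg]
  rfl

omit hg

theorem card_ker_le : Nat.card proj.ker ≤ 2 := by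
  let f : proj.ker → ({0, flipPt 0} : Set (Fin 200)) := fun g => ⟨(fib g.1 base : Equiv.Perm (Fin 200)) 0, by
    rcases fib_cases (MonoidHom.mem_ker.1 g.2) base with h | h <;> rw [h]
    · exact Or.inl rfl
    · exact Or.inr (J2.Mult.tau_apply 0)⟩
  have hf : Function.Injective f := by
    intro g h e
    have e' := congrArg Subtype.val e
    refine (Subtype.ext (inv_mul_eq_one.1 (ker_eq_one (g := g.1⁻¹ * h.1) ?_ ?_)))
    · rw [← MonoidHom.mem_ker]
      exact mul_mem (inv_mem g.2) h.2
    · rw [Subgroup.coe_mul, Subgroup.coe_inv, Equiv.Perm.mul_apply, fib_spec,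
        ker_fix (MonoidHom.mem_ker.1 h.2), Equiv.Perm.coe_inv, Equiv.symm_apply_eq, fib_spec,
        ker_fix (MonoidHom.mem_ker.1 g.2)]
      exact Prod.ext rfl e'.symm
  refine (Nat.card_le_card_of_injective f hf).trans_eq ?_
  rw [Nat.card_coe_set_eq, Set.ncard_pair (J2.Mult.flip_ne 0).symm]

/-! ### The orders -/

variable (hcard : Nat.card grp = 251596800)
include hcard

theorem orders : Nat.card proj.ker = 2 ∧ proj.range = grp ∧ Nat.card stab0 = 1209600 ∧
    Nat.card Gam = 503193600 := by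
  have h1 := proj.ker.card_mul_index
  rw [Subgroup.index_ker] at h1
  have h2 := stab0.card_mul_index
  rw [index_stab0] at h2
  have h3 : 1209600 ≤ Nat.card stab0 := by
    rw [← J2.Mult.card_Cov200]
    exact Nat.card_le_card_of_surjective _ psi_surjective
  have h4 : Nat.card proj.range ≤ 251596800 := hcard ▸ Subgroup.card_le_of_le proj_range_le
  have h5 := card_ker_le
  have h6 : Nat.card proj.ker * Nat.card proj.range ≤ 2 * 251596800 := Nat.mul_le_mul h5 h4
  have hk : Nat.card proj.ker = 2 := by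
    rcases (by omega : Nat.card proj.ker = 2 ∨ Nat.card proj.ker ≤ 1) with h | h
    · exact h
    · have := Nat.mul_le_mul h h4
      omega
  rw [hk] at h1
  refine ⟨hk, Subgroup.eq_of_le_of_card_ge proj_range_le (by rw [hcard]; omega), by omega, by omega⟩

theorem psi_bijective : Function.Bijective psi :=
  psi_surjective.bijective_of_nat_card_le (by rw [J2.Mult.card_Cov200, (orders hcard).2.2.1])

theorem cov200_perfect : commutator Cov200 = ⊤ := by
  refine Schur.commutator_eq_top_of_stem ?_ J2.Mult.toJ2 J2.Mult.toJ2_stem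
  haveI := J2.isSimple_J2
  rcases IsSimpleGroup.eq_bot_or_eq_top_of_normal (commutator Spor.J2) inferInstance with h | h
  · exfalso
    obtain ⟨a, b, hab⟩ := J2.exists_noncomm_J2
    refine hab ?_
    have hm : ⁅a, b⁆ ∈ commutator Spor.J2 :=
      Subgroup.commutator_mem_commutator (Subgroup.mem_top a) (Subgroup.mem_top b)
    rw [h, Subgroup.mem_bot] at hm
    exact commutatorElement_eq_one_iff_mul_comm.1 hm
  · exact h

theorem stab0_perfect : ⁅stab0, stab0⁆ = stab0 := by
  let e := MulEquiv.ofBijective psi (psi_bijective hcard)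
  have h2 : commutator stab0 = ⊤ := by
    rw [commutator_def, ← Subgroup.map_top_of_surjective e.symm.toMonoidHom e.symm.surjective,
      ← Subgroup.map_commutator, ← commutator_def, cov200_perfect hcard,
      Subgroup.map_top_of_surjective _ e.symm.surjective]
  have h3 := congrArg (Subgroup.map stab0.subtype) h2
  rwa [commutator_def, Subgroup.map_commutator, ← MonoidHom.range_eq_map, Subgroup.range_subtype] at h3

theorem ker_le_commutator : proj.ker ≤ commutator Gam := by
  intro g hg
  have hs : g ∈ stab0 := ker_fix (MonoidHom.mem_ker.1 hg) base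
  have h2 : g ∈ ⁅stab0, stab0⁆ := by rw [stab0_perfect hcard]; exact hs
  exact Subgroup.commutator_mono le_top le_top h2

theorem ker_le_center : proj.ker ≤ Subgroup.center Gam := by
  intro g hg
  refine Subgroup.mem_center_iff.2 fun x => ?_
  have hx : x * g * x⁻¹ ∈ proj.ker := (MonoidHom.normal_ker proj).conj_mem g hg x
  by_cases hg1 : g = 1
  · rw [hg1]; simp
  have hne : x * g * x⁻¹ ≠ 1 := by
    rwa [Ne, conj_eq_one_iff]
  obtain ⟨a, b, hab, he⟩ := Nat.card_eq_two_iff.1 (orders hcard).1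
  have hu : (⟨x * g * x⁻¹, hx⟩ : proj.ker) = ⟨g, hg⟩ := by
    have hm : ∀ z : proj.ker, z = a ∨ z = b := fun z => by
      have : z ∈ ({a, b} : Set proj.ker) := he ▸ Set.mem_univ z
      exact this
    have hz1 : (⟨x * g * x⁻¹, hx⟩ : proj.ker) ≠ 1 := fun e => hne (congrArg Subtype.val e)
    have hz2 : (⟨g, hg⟩ : proj.ker) ≠ 1 := fun e => hg1 (congrArg Subtype.val e)
    rcases hm 1 with e | e <;> rcases hm ⟨x * g * x⁻¹, hx⟩ with e1 | e1 <;>
      rcases hm ⟨g, hg⟩ with e2 | e2 <;> simp_all
  have := congrArg Subtype.val hu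
  simp only at this
  rw [mul_inv_eq_iff_eq_mul] at this
  exact this

/-- The projection onto the group. -/
noncomputable def toG : Gam →* grp :=
  (MulEquiv.subgroupCongr (orders hcard).2.1).toMonoidHom.comp proj.rangeRestrict

theorem toG_ker : (toG hcard).ker = proj.ker := by
  rw [← MonoidHom.ker_rangeRestrict proj, toG]
  ext x
  simp [MonoidHom.mem_ker]

theorem toG_stem : IsStemExtension (toG hcard) :=
  ⟨(MulEquiv.subgroupCongr (orders hcard).2.1).surjective.comp proj.rangeRestrict_surjective,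
    by rw [toG_ker hcard]; exact ker_le_center hcard, by rw [toG_ker hcard]; exact ker_le_commutator hcard⟩

theorem rels_hold : ∀ W ∈ certTwo.rels, wordProd sGen W = 1 := by
  intro W hW
  obtain ⟨h2, hfix⟩ := StemCert.shape_rel shape hW
  refine ker_eq_one (Equiv.ext fun z => ?_) ?_
  · obtain ⟨x, rfl⟩ := ptC_surj z
    have hx : (x : ℕ) < certTwo.N := x.isLt
    rw [proj_apply, ← smul_def, StemPerm.path_eq certTwo shape ptC sGen sGen_ptC W h2 x hx, hfix x hx]
    rfl
  · have h := rels_arc
    simp only [List.all_eq_true, Nat.beq_eq] at h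
    exact walk_eq (h W hW)

theorem noStem_Gam (p : ℕ) (hp : p.Prime) : NoStem p Gam := by
  haveI := Fact.mk hp
  let e := MulEquiv.ofBijective psi (psi_bijective hcard)
  have hno : NoStem p stab0 := NoStem.of_equiv e.symm (J2.Mult.noStem_Cov200 p hp)
  by_cases h2 : p = 2
  · subst h2
    refine noStem_of_cert certTwo (xorVec _) certTwo_check ptC sGen sGen_closure sGen_ptC
      (fun y hy h => ptC_inj y hy 0 (by decide) h) (rels_hold hcard) ?_
    rw [ptC_zero]
    exact liftsAt_of_noStem hp (stab0_perfect hcard) hno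
  by_cases h13 : p = 13
  · subst h13
    refine noStem_of_not_sq_dvd hp ?_
    rw [(orders hcard).2.2.2]
    norm_num
  refine Schur.noStem_of_index_prime hp stab0 hno ?_
  rw [index_stab0]
  intro h
  rw [show (416 : ℕ) = 2 ^ 5 * 13 by norm_num] at h
  rcases hp.dvd_mul.1 h with h | h
  · exact h2 ((Nat.prime_dvd_prime_iff_eq hp Nat.prime_two).1 (hp.dvd_of_dvd_pow h))
  · exact h13 ((Nat.prime_dvd_prime_iff_eq hp (by norm_num)).1 h)

/-- The group on 416 points has multiplier of order two. -/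
theorem multiplier_grp (hperf : commutator grp = ⊤) : Cfsg.HasCyclicSchurMultiplier grp 2 := by
  have hk2 : Nat.card (toG hcard).ker = 2 := by rw [toG_ker hcard, (orders hcard).1]
  haveI : Fact (Nat.Prime 2) := ⟨Nat.prime_two⟩
  haveI := isCyclic_of_prime_card hk2
  exact Schur.hasSchurMultiplier_of_cover hperf (toG_stem hcard) (noStem_Gam hcard)
    ((zmodCyclicMulEquiv (G := (toG hcard).ker) inferInstance).symm.trans
      (AddEquiv.toMultiplicative (ZMod.ringEquivCongr hk2).toAddEquiv))

end Cfsg.Lib.GTwoFour416.Cover
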