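import Cfsg.Agent.Lib.GTwoFour416.CoverData
import Cfsg.Agent.Lib.GTwoFour416.Act
import Cfsg.Agent.Lib.J2.Cover

/-!
# A double cover of `G₂(4)` on signed arcs: the table checks
-/

set_option autoImplicit false
set_option maxRecDepth 100000

namespace Cfsg.Lib.GTwoFour416.Cover

open Cfsg.Lib.CosetEnum

/-- A decoded word. -/
def bits : ℕ → ℕ → List ℕ
  | 0, _ => []
  | n + 1, c => cond (Nat.ble 2 c) (c % 2 :: bits n (c / 2)) []

/-- The word of a fibre map. -/
def ellW (i x : ℕ) : List ℕ := bits 28 (nib 28 (ellTab i) x)

/-- The value of a word on a letter. -/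
def wEval (W : List ℕ) (l : ℕ) : ℕ := W.foldr (fun j y => J2.Mult.gV (j % 2) y) l

/-- A letter under a generator of the cover of the stabiliser. -/
noncomputable def letterStep (j y : ℕ) : ℕ :=
  force y fun y => Nat.land (Nat.shiftRight (J2.Mult.genTab j) (Nat.mul 8 y)) 255

/-- The value of a coded word on a letter. -/
noncomputable def wCode (n c l : ℕ) : ℕ :=
  Nat.rec (motive := fun _ => ℕ → ℕ) (fun _ => l)
    (fun _ ih c => force c fun c =>
      cond (Nat.ble 2 c) (letterStep (Nat.land c 1) (ih (Nat.shiftRight c 1))) l) n c

/-- A fibre map. -/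
noncomputable def ellN (i x l : ℕ) : ℕ := force (nib 28 (ellTab i) x) fun c => wCode 28 c l

/-- A generator on the points. -/
def sigN (i x : ℕ) : ℕ := nib 9 (sigTab i) x

/-- An entry of the reversal. -/
noncomputable def revE (x l : ℕ) : ℕ := force (revTab.get x) fun r => nib 17 r (l % 100)

/-- The neighbour of an arc. -/
noncomputable def nbN (x l : ℕ) : ℕ := force (revE x l) fun e => e / 256

/-- The letter of the reversed arc. -/
noncomputable def revL (x l : ℕ) : ℕ := force (revE x l) fun e => (e % 256 + 100 * (l / 100)) % 200

/-- An entry of a row of the reversal. -/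
def fieldR (r l : ℕ) : ℕ := Nat.land (Nat.shiftRight r (Nat.mul 17 l)) 131071

/-- The reversal commutes with a generator on one fibre. -/
noncomputable def fibreOK (i x : ℕ) : Bool :=
  force (revTab.get x) fun r => force (revTab.get (sigN i x)) fun R =>
  force (nib 28 (ellTab i) x) fun c => (List.range 100).all fun k =>
    force (fieldR r k) fun e => force (Nat.shiftRight e 8) fun y => force (wCode 28 c k) fun l =>
    force (fieldR R (Nat.mod l 100)) fun E =>
      Nat.blt y 416 && Nat.blt (Nat.land e 255) 200 && Nat.beq (Nat.shiftRight E 8) (sigN i y) &&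
      Nat.beq (Nat.mod (Nat.add (Nat.land E 255) (Nat.mul 100 (Nat.div l 100))) 200)
        (ellN i y (Nat.land e 255))

/-- The entries of a row from `k` on are distinct and outside the mask. -/
noncomputable def distinctFrom (x : ℕ) : ℕ → ℕ → ℕ → Bool
  | 0, _, _ => true
  | n + 1, k, M => force (nbN x k) fun y => !Nat.testBit M y &&
      force (Nat.lor M (Nat.shiftLeft 1 y)) fun M' => distinctFrom x n (k + 1) M'

/-- The next point towards the base. -/
noncomputable def hopN (x : ℕ) : ℕ := nbN x (nib 8 hopTab x)

/-- A generator on an arc, coded as one number. -/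
noncomputable def arcStep (i s : ℕ) : ℕ :=
  force s fun s => sigN (i % 2) (s / 200) * 200 + ellN (i % 2) (s / 200) (s % 200)

/-- A word on an arc. -/
noncomputable def arcWalk (W : List ℕ) (s : ℕ) : ℕ := W.foldr arcStep s

theorem fibres_zero_0 : (List.range 104).all (fun x => fibreOK 0 (0 + x)) = true := by decide +kernel

theorem fibres_zero_1 : (List.range 104).all (fun x => fibreOK 0 (104 + x)) = true := by decide +kernel

theorem fibres_zero_2 : (List.range 104).all (fun x => fibreOK 0 (208 + x)) = true := by decide +kernel

theorem fibres_zero_3 : (List.range 104).all (fun x => fibreOK 0 (312 + x)) = true := by decide +kernel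

theorem fibres_one_0 : (List.range 104).all (fun x => fibreOK 1 (0 + x)) = true := by decide +kernel

theorem fibres_one_1 : (List.range 104).all (fun x => fibreOK 1 (104 + x)) = true := by decide +kernel

theorem fibres_one_2 : (List.range 104).all (fun x => fibreOK 1 (208 + x)) = true := by decide +kernel

theorem fibres_one_3 : (List.range 104).all (fun x => fibreOK 1 (312 + x)) = true := by decide +kernel

theorem rows_distinct : (List.range 416).all (fun x => distinctFrom x 100 0 0) = true := by decide +kernel

theorem hops_ok : (List.range 416).all (fun x => Nat.blt (nib 8 hopTab x) 100 && (Nat.beq x 209 ||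
    force (hopN x) fun y => Nat.blt y 416 && (Nat.beq y 209 || Nat.beq (hopN y) 209))) = true := by decide +kernel

theorem sig_words : ∀ i : Fin 2, (genW i).all (fun a => Nat.blt a 6) = true ∧
    ∀ x : Fin 416, twalk tab 6 (genW i) x = sigN i x := by decide +kernel

theorem stab_words : (List.range 2).all (fun i => (List.range 200).all fun l =>
    Nat.beq (arcWalk (stabW i) (209 * 200 + l)) (209 * 200 + J2.Mult.gV i l)) = true := by decide +kernel

theorem rels_arc : certTwo.rels.all (fun W => Nat.beq (arcWalk W (209 * 200)) (209 * 200)) = true := by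
  decide +kernel

theorem pts_table : (List.range 2).all (fun i => (List.range 416).all fun x =>
    Nat.beq (sigN i (nib 9 ptTab x)) (nib 9 ptTab (certTwo.tab i x))) = true := by decide +kernel

theorem pts_inj : ∀ x : Fin 416, nib 9 ptTab x < 416 ∧
    ((List.range 416).all fun y => Nat.beq y x || !Nat.beq (nib 9 ptTab y) (nib 9 ptTab x)) = true := by
  decide +kernel

theorem pts_base : nib 9 ptTab 0 = 209 := by decide +kernel

theorem certTwo_check : certTwo.check (Cfsg.Lib.Concrete.xorVec certTwo.m) = true := by decide +kernel

end Cfsg.Lib.GTwoFour416.Cover
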